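import Groth.Agent.LocFlat.Basic
import Mathlib.RingTheory.Flat.Basic
import Mathlib.RingTheory.Localization.BaseChange

set_option autoImplicit false
set_option linter.style.haveILetI false
universe u
open TensorProduct

namespace Groth.Agent.FlatFromQuot

/-- A module is flat when a regular element has flat quotient and flat localisation. -/
theorem flat_of_quot_of_away {A C Ct : Type u} [CommRing A] [CommRing C] [CommRing Ct] [Algebra A C]
    [Algebra C Ct] [Algebra A Ct] [IsScalarTower A C Ct] (t : C) [IsLocalization.Away t Ct]
    (ht : t ∈ nonZeroDivisors C) [Module.Flat A (C ⧸ Ideal.span {t})] [Module.Flat A Ct] :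
    Module.Flat A C := by
  rw [Module.Flat.iff_lTensor_injective']
  intro I
  rw [injective_iff_map_eq_zero]
  intro z hz
  have hex : Function.Exact (LinearMap.mulLeft A t) (Ideal.Quotient.mkₐ A (Ideal.span {t})).toLinearMap := fun y =>
    ⟨fun hy => by
      obtain ⟨c, hc⟩ := Ideal.mem_span_singleton'.1 (Ideal.Quotient.eq_zero_iff_mem.1 hy)
      exact ⟨c, (mul_comm t c).trans hc⟩,
    by
      rintro ⟨c, rfl⟩
      exact Ideal.Quotient.eq_zero_iff_mem.2 (Ideal.mul_mem_right _ _ (Ideal.mem_span_singleton_self t))⟩
  have hinj := Groth.Agent.LocFlat.lTensor_injective_of_flat_coker (LinearMap.mulLeft A t)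
    (Ideal.Quotient.mkₐ A (Ideal.span {t})).toLinearMap hex Ideal.Quotient.mk_surjective
    (fun x y hxy => (mul_cancel_left_mem_nonZeroDivisors ht).1 hxy) I
  have hsmul : ∀ w : C ⊗[A] I, (TensorProduct.comm A C I) (t • w) =
      (LinearMap.mulLeft A t).lTensor I (TensorProduct.comm A C I w) := fun w => by
    induction w using TensorProduct.induction_on with
    | zero => simp
    | tmul c i => simp [smul_tmul']
    | add x y hx hy => simp only [smul_add, map_add, hx, hy]
  have hreg : ∀ w : C ⊗[A] I, t • w = 0 → w = 0 := fun w hw => by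
    have h1 := hsmul w
    rw [hw, map_zero] at h1
    exact (TensorProduct.comm A C I).injective ((hinj (h1.symm.trans (map_zero _).symm)).trans (map_zero _).symm)
  let L : C →ₗ[A] Ct := (IsScalarTower.toAlgHom A C Ct).toLinearMap
  have h0 : (L.rTensor I) z = 0 := by
    apply Module.Flat.lTensor_preserves_injective_linearMap (M := Ct) I.subtype Subtype.val_injective
    rw [map_zero, ← LinearMap.comp_apply, LinearMap.lTensor_comp_rTensor, ← LinearMap.rTensor_comp_lTensor,
      LinearMap.comp_apply, hz, map_zero]
  let F := TensorProduct.mk C Ct (C ⊗[A] I) 1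
  haveI : IsLocalizedModule (Submonoid.powers t) F :=
    (isLocalizedModule_iff_isBaseChange (Submonoid.powers t) Ct F).2 (TensorProduct.isBaseChange C _ Ct)
  have hF : ∀ w : C ⊗[A] I, TensorProduct.AlgebraTensorModule.cancelBaseChange A C C Ct I (F w) = L.rTensor I w :=
    fun w => by
    induction w using TensorProduct.induction_on with
    | zero => simp
    | tmul c i => simp [F, L, Algebra.smul_def]
    | add x y hx hy => simp only [map_add, hx, hy]
  have hF0 : F z = 0 :=
    (TensorProduct.AlgebraTensorModule.cancelBaseChange A C C Ct I).injective ((hF z).trans (h0.trans (map_zero _).symm))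
  obtain ⟨⟨_, n, rfl⟩, hn⟩ := (IsLocalizedModule.eq_zero_iff (Submonoid.powers t) F).1 hF0
  simp only [Submonoid.smul_def] at hn
  clear hz h0 hF0
  induction n with
  | zero => simpa using hn
  | succ n ih => exact ih (hreg _ (by rwa [pow_succ', mul_smul] at hn))

end Groth.Agent.FlatFromQuot
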